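import Groth.Agent.Books.SmoothDiv
import Mathlib.RingTheory.Regular.RegularSequence
import Mathlib.RingTheory.Localization.Ideal
import Mathlib.RingTheory.Localization.AtPrime.Basic

/-!
# Smoothness of a local ring from smoothness of its quotient by a regular sequence
-/

set_option autoImplicit false
universe u
open IsLocalRing RingTheory.Sequence

namespace Groth.Agent.Ega4late.H525.SmoothRegSeq

/-- The localization at a prime, modulo an ideal contained in the prime. -/
theorem isLocalization_atPrime_quotient {C S : Type u} [CommRing C] [CommRing S] [Algebra C S]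
    (q : Ideal C) [q.IsPrime] [IsLocalization.AtPrime S q] (I : Ideal C)
    (q' : Ideal (C ⧸ I)) [q'.IsPrime] (hq' : q'.comap (Ideal.Quotient.mk I) = q)
    (J : Ideal S) (hJ : J = I.map (algebraMap C S)) [Algebra (C ⧸ I) (S ⧸ J)]
    (halg : ∀ c : C, algebraMap (C ⧸ I) (S ⧸ J) (Ideal.Quotient.mk I c) =
      Ideal.Quotient.mk J (algebraMap C S c)) :
    IsLocalization.AtPrime (S ⧸ J) q' := by
  have h := IsLocalization.of_surjective (S' := S ⧸ J) q.primeCompl S (Ideal.Quotient.mk I)
    Ideal.Quotient.mk_surjective (Ideal.Quotient.mk J) Ideal.Quotient.mk_surjective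
    (by ext c; exact (halg c).symm) (by simp [hJ])
  have e : q.primeCompl.map (Ideal.Quotient.mk I) = q'.primeCompl := by
    ext x
    constructor
    · rintro ⟨y, hy, rfl⟩
      intro hx
      apply hy
      rw [← hq']
      exact hx
    · intro hx
      obtain ⟨y, rfl⟩ := Ideal.Quotient.mk_surjective x
      refine ⟨y, ?_, rfl⟩
      intro hy
      apply hx
      rw [← hq'] at hy
      exact hy
  rw [e] at h
  exact h

theorem formallySmooth_of_quotient_list {R : Type u} [CommRing R] (n : ℕ) :
    ∀ (C S : Type u) [CommRing C] [CommRing S] [IsLocalRing S]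
    [Algebra R C] [Algebra C S] [Algebra R S] [IsScalarTower R C S] (q : Ideal C) [q.IsPrime]
    [IsLocalization.AtPrime S q] [Algebra.FinitePresentation R C] (rs : List C)
    (_ : rs.length = n) (_ : ∀ r ∈ rs, r ∈ q)
    (_ : IsWeaklyRegular S (rs.map (algebraMap C S)))
    (_ : Algebra.FormallySmooth R (S ⧸ Ideal.ofList (rs.map (algebraMap C S)))),
    Algebra.FormallySmooth R S := by
  induction n with
  | zero =>
    intro C S _ _ _ _ _ _ _ q _ _ _ rs hn hq hreg h
    obtain rfl : rs = [] := List.length_eq_zero_iff.mp hn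
    have e : Ideal.ofList (([] : List C).map (algebraMap C S)) = ⊥ := by simp
    let e' : (S ⧸ Ideal.ofList (([] : List C).map (algebraMap C S))) ≃ₐ[R] S :=
      (Ideal.quotientEquivAlgOfEq R e).trans (AlgEquiv.quotientBot R S)
    exact Algebra.FormallySmooth.of_equiv e'
  | succ n ih =>
    intro C S _ _ _ _ _ _ _ q _ _ _ rs hn hq hreg h
    match rs, hn, hq, hreg, h with
    | r :: rs, hn, hq, hreg, h =>
    simp only [List.length_cons, Nat.add_right_cancel_iff] at hn
    rw [List.map_cons, isWeaklyRegular_cons_iff] at hreg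
    obtain ⟨hr, hreg⟩ := hreg
    have hrq : r ∈ q := hq r (List.mem_cons_self)
    let t : S := algebraMap C S r
    let I : Ideal C := Ideal.span {r}
    let J : Ideal S := Ideal.span {t}
    have hJ : J = I.map (algebraMap C S) := by
      simp only [I, J, t, Ideal.map_span, Set.image_singleton]
    have hIq : I ≤ q := (Ideal.span_singleton_le_iff_mem _).mpr hrq
    have hIJ : I ≤ J.comap (algebraMap C S) := by
      rw [hJ]; exact Ideal.le_comap_map
    let _ : Algebra (C ⧸ I) (S ⧸ J) := (Ideal.quotientMap J (algebraMap C S) hIJ).toAlgebra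
    have htower : IsScalarTower R (C ⧸ I) (S ⧸ J) := .of_algebraMap_eq' (by
      ext x
      change Ideal.Quotient.mk J (algebraMap R S x) = Ideal.Quotient.mk J (algebraMap C S (algebraMap R C x))
      rw [← IsScalarTower.algebraMap_apply])
    let q' : Ideal (C ⧸ I) := q.map (Ideal.Quotient.mk I)
    have hq' : q'.comap (Ideal.Quotient.mk I) = q := by
      change (q.map (Ideal.Quotient.mk I)).comap (Ideal.Quotient.mk I) = q
      rw [Ideal.comap_map_of_surjective _ Ideal.Quotient.mk_surjective, ← RingHom.ker_eq_comap_bot,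
        Ideal.mk_ker, sup_eq_left]
      exact hIq
    have : q'.IsPrime := Ideal.map_isPrime_of_surjective Ideal.Quotient.mk_surjective
      (by rw [Ideal.mk_ker]; exact hIq)
    have : IsLocalization.AtPrime (S ⧸ J) q' :=
      isLocalization_atPrime_quotient q I q' hq' J hJ (fun c => rfl)
    have : Algebra.FinitePresentation R (C ⧸ I) := .quotient ⟨{r}, by simp [I]⟩
    have htm : t ∈ maximalIdeal S := by
      rw [← IsLocalization.AtPrime.to_map_mem_maximal_iff S q] at hrq
      exact hrq
    have htn : t ∈ nonZeroDivisors S := by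
      rw [mem_nonZeroDivisors_iff_right]
      intro x hx
      exact hr (by simpa [mul_comm] using hx)
    have : Nontrivial (S ⧸ J) := Ideal.Quotient.nontrivial_iff.mpr (fun h0 => by
      have : J ≤ maximalIdeal S := (Ideal.span_singleton_le_iff_mem _).mpr htm
      rw [h0] at this
      exact (maximalIdeal.isMaximal S).ne_top (top_le_iff.mp this))
    have : IsLocalRing (S ⧸ J) := .of_surjective' (Ideal.Quotient.mk J) Ideal.Quotient.mk_surjective
    have key : Algebra.FormallySmooth R (S ⧸ J) := by
      have hlist : (rs.map (Ideal.Quotient.mk I)).map (algebraMap (C ⧸ I) (S ⧸ J)) =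
          (rs.map (algebraMap C S)).map (Ideal.Quotient.mk J) := by
        rw [List.map_map, List.map_map]
        rfl
      refine ih (C ⧸ I) (S ⧸ J) q' (rs.map (Ideal.Quotient.mk I)) (by simpa using hn) ?_ ?_ ?_
      · intro x hx
        obtain ⟨y, hy, rfl⟩ := List.mem_map.mp hx
        exact Ideal.mem_map_of_mem _ (hq y (List.mem_cons_of_mem _ hy))
      · rw [hlist]
        have h2 : IsWeaklyRegular (S ⧸ J) (rs.map (algebraMap C S)) := by
          refine (LinearEquiv.isWeaklyRegular_congr ?_ _).mp hreg
          refine Submodule.quotEquivOfEq _ _ ?_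
          rw [← Submodule.ideal_span_singleton_smul, smul_eq_mul, Ideal.mul_top]
        exact (isWeaklyRegular_map_algebraMap_iff (R := S) (S := S ⧸ J) (M := S ⧸ J) _).mpr h2
      · rw [hlist]
        have e : J ⊔ Ideal.ofList (rs.map (algebraMap C S)) =
            Ideal.ofList ((r :: rs).map (algebraMap C S)) := by
          rw [List.map_cons, Ideal.ofList_cons]
        have e2 : Ideal.ofList ((rs.map (algebraMap C S)).map (Ideal.Quotient.mk J)) =
            (Ideal.ofList (rs.map (algebraMap C S))).map (Ideal.Quotient.mk J) := by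
          rw [Ideal.map_ofList]
        let e3 : ((S ⧸ J) ⧸ (Ideal.ofList (rs.map (algebraMap C S))).map (Ideal.Quotient.mk J)) ≃ₐ[R]
            (S ⧸ (J ⊔ Ideal.ofList (rs.map (algebraMap C S)))) :=
          DoubleQuot.quotQuotEquivQuotSupₐ R J _
        exact Algebra.FormallySmooth.of_equiv
          (((Ideal.quotientEquivAlgOfEq R e2).trans e3).trans (Ideal.quotientEquivAlgOfEq R e)).symm
    exact Books.SmoothDiv.formallySmooth_of_quotient q t htn htm key

end Groth.Agent.Ega4late.H525.SmoothRegSeq
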